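import Mathlib

set_option autoImplicit false

namespace Cfsg.Agent.S3599L

/-- Abstract interface: `F` behaves like the minimal Frobenius group `C_r^a : C_t`. -/
structure IsFrob (r t : ℕ) (F : Type) [Group F] : Prop where
  ord : ∀ g : F, orderOf g = 1 ∨ orderOf g = r ∨ orderOf g = t
  ex_r : ∃ g : F, orderOf g = r
  ex_t : ∃ g : F, orderOf g = t
  gen : ∀ H : Subgroup F, (∃ g ∈ H, orderOf g = r) → (∃ g ∈ H, orderOf g = t) → H = ⊤
  quot : ∀ N : Subgroup F, N.Normal → N ≠ ⊥ → ∀ g : F, orderOf g = r → g ∈ N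
  card : ∃ a : ℕ, 1 ≤ a ∧ Nat.card F = r ^ a * t ∧ (a = 1 → t ∣ r - 1)

/-- The spectrum set built from two families of primes. -/
def Om {s : ℕ} (r t : Fin s → ℕ) : Set ℕ :=
  {m : ℕ | ∃ c : Fin s → ℕ, (∀ j, c j = 1 ∨ c j = r j ∨ c j = t j) ∧ m = ∏ j, c j}

section Aff
variable (K : Type) [Field K]

/-- A subgroup of the units acting on the additive group of the field by multiplication. -/
noncomputable def act (Z : Subgroup Kˣ) : Z →* MulAut (Multiplicative K) :=
  (MulAutMultiplicative K).symm.toMonoidHom.comp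
    ((DistribMulAction.toAddAut Kˣ K).comp Z.subtype)

/-- The affine group `K : Z`. -/
abbrev Aff (Z : Subgroup Kˣ) : Type := SemidirectProduct (Multiplicative K) Z (act K Z)

theorem act_apply (Z : Subgroup Kˣ) (u : Z) (x : Multiplicative K) :
    act K Z u x = Multiplicative.ofAdd (((u : Kˣ) : K) * Multiplicative.toAdd x) := rfl

end Aff

end Cfsg.Agent.S3599L
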