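import Cfsg.Agent.Lib.S3599.Defs

set_option autoImplicit false

namespace Cfsg.Agent.S3599L

/-- `t ∣ r ^ m - 1` iff `(r : ZMod t) ^ m = 1` (for `1 ≤ r`). -/
theorem FE_dvd_iff (r t m : ℕ) (hr : 1 ≤ r) :
    t ∣ r ^ m - 1 ↔ ((r : ZMod t)) ^ m = 1 := by
  have h1 : 1 ≤ r ^ m := Nat.one_le_pow _ _ hr
  rw [← ZMod.natCast_eq_zero_iff, Nat.cast_sub h1, Nat.cast_pow, Nat.cast_one, sub_eq_zero]

theorem FE_exists_field (r t : ℕ) [Fact r.Prime] (ht : t.Prime) (hne : r ≠ t) :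
    ∃ (a : ℕ) (ζ : (GaloisField r a)ˣ), 1 ≤ a ∧ Nat.card (GaloisField r a) = r ^ a ∧ orderOf ζ = t ∧
      (a = 1 → t ∣ r - 1) ∧ ∀ m : ℕ, 1 ≤ m → t ∣ r ^ m - 1 → a ≤ m := by
  haveI : Fact t.Prime := ⟨ht⟩
  have hrp : r.Prime := Fact.out
  have hcop : Nat.Coprime r t := (Nat.coprime_primes hrp ht).2 hne
  set x : (ZMod t)ˣ := ZMod.unitOfCoprime r hcop with hx
  have hxval : ((x : (ZMod t)ˣ) : ZMod t) = (r : ZMod t) := ZMod.coe_unitOfCoprime r hcop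
  have ha : 1 ≤ orderOf x := orderOf_pos x
  -- key: x ^ m = 1 ↔ t ∣ r ^ m - 1
  have key : ∀ m : ℕ, x ^ m = 1 ↔ t ∣ r ^ m - 1 := by
    intro m
    rw [FE_dvd_iff r t m hrp.one_lt.le, ← hxval, ← Units.val_pow_eq_pow_val, Units.val_eq_one]
  have hdvd : t ∣ r ^ orderOf x - 1 := (key _).1 (pow_orderOf_eq_one x)
  have hcardK : Nat.card (GaloisField r (orderOf x)) = r ^ orderOf x :=
    GaloisField.card r (orderOf x) (by omega)
  haveI : Finite (GaloisField r (orderOf x)) := by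
    apply Nat.finite_of_card_ne_zero
    rw [hcardK]; exact pow_ne_zero _ hrp.pos.ne'
  have hcardU : Nat.card (GaloisField r (orderOf x))ˣ = r ^ orderOf x - 1 := by
    rw [Nat.card_units, hcardK]
  obtain ⟨ζ, hζ⟩ := exists_prime_orderOf_dvd_card' (G := (GaloisField r (orderOf x))ˣ) t
    (by rw [hcardU]; exact hdvd)
  refine ⟨orderOf x, ζ, ha, hcardK, hζ, ?_, ?_⟩
  · intro h1
    have := hdvd
    rw [h1, pow_one] at this
    exact this
  · intro m hm hmd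
    have : x ^ m = 1 := (key m).2 hmd
    exact Nat.le_of_dvd hm (orderOf_dvd_of_pow_eq_one this)

end Cfsg.Agent.S3599L
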