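import Cfsg.Agent.Lib.S3599.Defs

set_option autoImplicit false

namespace Cfsg.Agent.S3599L

theorem PW_pow_right {K : Type} [Field K] (Z : Subgroup Kˣ) (g : Aff K Z) (n : ℕ) :
    (g ^ n).right = g.right ^ n := by
  have := map_pow (SemidirectProduct.rightHom (N := Multiplicative K) (G := Z) (φ := act K Z)) g n
  simpa using this

theorem PW_pow_left {K : Type} [Field K] (Z : Subgroup Kˣ) (g : Aff K Z) (n : ℕ) :
    Multiplicative.toAdd (g ^ n).left =
      (∑ i ∈ Finset.range n, (((g.right : Kˣ) : K)) ^ i) * Multiplicative.toAdd g.left := by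
  induction n with
  | zero => simp
  | succ n ih =>
    rw [pow_succ, SemidirectProduct.mul_left, toAdd_mul, ih, PW_pow_right, act_apply,
      Finset.sum_range_succ, add_mul]
    simp


theorem PW_pow_r {K : Type} [Field K] (r : ℕ) [CharP K r] (Z : Subgroup Kˣ) (g : Aff K Z)
    (hg : g.right = 1) : g ^ r = 1 := by
  apply SemidirectProduct.ext
  · apply Multiplicative.toAdd.injective
    rw [PW_pow_left, hg]
    simp
  · rw [PW_pow_right, hg]
    simp

theorem PW_pow_t {K : Type} [Field K] (t : ℕ) (ζ : Kˣ) (hζ : orderOf ζ = t)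
    (g : Aff K (Subgroup.zpowers ζ)) (hg : g.right ≠ 1) : g ^ t = 1 := by
  have hut : g.right ^ t = 1 := by
    obtain ⟨k, hk⟩ := g.right.2
    apply Subtype.ext
    rw [Subgroup.coe_pow, ← hk]
    simp only [Subgroup.coe_one]
    rw [← zpow_natCast, ← zpow_mul, mul_comm, zpow_mul, zpow_natCast, ← hζ, pow_orderOf_eq_one,
      one_zpow]
  have huK : (((g.right : Kˣ) : K)) ^ t = 1 := by
    have := congrArg (fun z : Subgroup.zpowers ζ => ((z : Kˣ) : K)) hut
    simpa using this
  have hne : (((g.right : Kˣ) : K)) ≠ 1 := by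
    intro h
    apply hg
    apply Subtype.ext
    apply Units.ext
    simpa using h
  apply SemidirectProduct.ext
  · apply Multiplicative.toAdd.injective
    rw [PW_pow_left]
    have hgeom := geom_sum_mul (((g.right : Kˣ) : K)) t
    rw [huK, sub_self] at hgeom
    have hS : (∑ i ∈ Finset.range t, (((g.right : Kˣ) : K)) ^ i) = 0 := by
      rcases mul_eq_zero.1 hgeom with h | h
      · exact h
      · exact absurd (sub_eq_zero.1 h) hne
    rw [hS]
    simp
  · rw [PW_pow_right, hut]
    simp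

theorem PW_ord {K : Type} [Field K] [Finite K] (r t : ℕ) (hr : r.Prime) (ht : t.Prime) (hne : r ≠ t)
    [CharP K r] (ζ : Kˣ) (hζ : orderOf ζ = t) (g : Aff K (Subgroup.zpowers ζ)) :
    (orderOf g = 1 ∨ orderOf g = r ∨ orderOf g = t) ∧
    (orderOf g = r → g.right = 1) ∧ (orderOf g = t → g.right ≠ 1) := by
  by_cases hg : g.right = 1
  · have h1 : orderOf g ∣ r := orderOf_dvd_of_pow_eq_one (PW_pow_r r _ g hg)
    rcases (Nat.dvd_prime hr).1 h1 with h | h
    · refine ⟨Or.inl h, fun _ => hg, fun h' => ?_⟩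
      rw [h] at h'
      exact absurd h'.symm ht.one_lt.ne'
    · refine ⟨Or.inr (Or.inl h), fun _ => hg, fun h' => ?_⟩
      exact absurd (h.symm.trans h') hne
  · have h1 : orderOf g ∣ t := orderOf_dvd_of_pow_eq_one (PW_pow_t t ζ hζ g hg)
    rcases (Nat.dvd_prime ht).1 h1 with h | h
    · refine ⟨Or.inl h, fun h' => ?_, fun _ => hg⟩
      rw [h] at h'
      exact absurd h'.symm hr.one_lt.ne'
    · refine ⟨Or.inr (Or.inr h), fun h' => ?_, fun _ => hg⟩
      exact absurd (h'.symm.trans h) hne

theorem PW_ex {K : Type} [Field K] [Finite K] (r t : ℕ) (hr : r.Prime) (ht : t.Prime) (hne : r ≠ t)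
    [CharP K r] (ζ : Kˣ) (hζ : orderOf ζ = t) :
    (∃ g : Aff K (Subgroup.zpowers ζ), orderOf g = r) ∧
    (∃ g : Aff K (Subgroup.zpowers ζ), orderOf g = t) := by
  constructor
  · refine ⟨⟨Multiplicative.ofAdd (1 : K), 1⟩, ?_⟩
    have := Fact.mk hr
    apply orderOf_eq_prime
    · exact PW_pow_r r _ _ rfl
    · intro h
      have := congrArg (fun z : Aff K (Subgroup.zpowers ζ) => Multiplicative.toAdd z.left) h
      simp at this
  · refine ⟨⟨1, ⟨ζ, Subgroup.mem_zpowers ζ⟩⟩, ?_⟩
    have := Fact.mk ht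
    have hζ1 : ζ ≠ 1 := by
      intro h
      rw [h, orderOf_one] at hζ
      exact ht.one_lt.ne' hζ.symm
    apply orderOf_eq_prime
    · apply PW_pow_t t ζ hζ
      intro h
      apply hζ1
      have := congrArg (fun z : Subgroup.zpowers ζ => (z : Kˣ)) h
      simpa using this
    · intro h
      apply hζ1
      have := congrArg (fun z : Aff K (Subgroup.zpowers ζ) => (z.right : Kˣ)) h
      simpa using this

end Cfsg.Agent.S3599L
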