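import Cfsg.Agent.Lib.S3599.IR
import Cfsg.Agent.Lib.S3599.PW

set_option autoImplicit false

namespace Cfsg.Agent.S3599L

/-- aux: conjugating `inl n` by an arbitrary element. -/
theorem GN_conj_inl {K : Type} [Field K] (Z : Subgroup Kˣ) (h : Aff K Z) (n : Multiplicative K) :
    h * SemidirectProduct.inl n * h⁻¹ = SemidirectProduct.inl (act K Z h.right n) := by
  apply SemidirectProduct.ext
  · simp only [SemidirectProduct.mul_left, SemidirectProduct.mul_right, SemidirectProduct.inv_left,
      SemidirectProduct.left_inl, SemidirectProduct.right_inl, mul_one]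
    have e : ∀ x, (act K Z h.right) ((act K Z h.right⁻¹) x) = x := by
      intro x
      rw [map_inv (act K Z) h.right]
      exact MulAut.apply_inv_self _ _ x
    rw [e, mul_comm h.left, mul_assoc, mul_inv_cancel, mul_one]
  · simp

theorem GN_gen {K : Type} [Field K] [Finite K] (r t a : ℕ) (hr : r.Prime) (ht : t.Prime) (hne : r ≠ t)
    [CharP K r] (hK : Nat.card K = r ^ a) (hmin : ∀ m : ℕ, 1 ≤ m → t ∣ r ^ m - 1 → a ≤ m)
    (ζ : Kˣ) (hζ : orderOf ζ = t) (H : Subgroup (Aff K (Subgroup.zpowers ζ)))
    (h1 : ∃ g ∈ H, orderOf g = r) (h2 : ∃ g ∈ H, orderOf g = t) : H = ⊤ := by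
  obtain ⟨g, hgH, hg⟩ := h1
  obtain ⟨h, hhH, hh⟩ := h2
  have hgr : g.right = 1 := (PW_ord r t hr ht hne ζ hζ g).2.1 hg
  have hhr : h.right ≠ 1 := (PW_ord r t hr ht hne ζ hζ h).2.2 hh
  -- the additive subgroup of translations inside H
  let inl' : Multiplicative K →* Aff K (Subgroup.zpowers ζ) := SemidirectProduct.inl
  let W : AddSubgroup K := Subgroup.toAddSubgroup' (H.comap inl')
  have hmemW : ∀ x : K, x ∈ W ↔ inl' (Multiplicative.ofAdd x) ∈ H := by
    intro x
    rfl
  -- g is a nonzero translation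
  have hg_inl : g = inl' g.left := by
    apply SemidirectProduct.ext
    · simp [inl']
    · simp [inl', hgr]
  have hg1 : g ≠ 1 := by
    intro h'
    rw [h', orderOf_one] at hg
    exact hr.one_lt.ne' hg.symm
  have hW : W ≠ ⊥ := by
    intro hbot
    have hmem : Multiplicative.toAdd g.left ∈ W := by
      rw [hmemW]
      have : Multiplicative.ofAdd (Multiplicative.toAdd g.left) = g.left := rfl
      rw [this, ← hg_inl]
      exact hgH
    rw [hbot, AddSubgroup.mem_bot] at hmem
    apply hg1
    rw [hg_inl]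
    have : g.left = 1 := by
      apply Multiplicative.toAdd.injective
      simpa using hmem
    rw [this, map_one]
  -- the unit u
  set u : Kˣ := (h.right : Kˣ) with hu_def
  have hu_mem : u ∈ Subgroup.zpowers ζ := h.right.2
  have hu1 : u ≠ 1 := by
    intro h'
    apply hhr
    apply Subtype.ext
    rw [Subgroup.coe_one]
    exact h'
  have hu : orderOf u = t := by
    have hdvd : orderOf u ∣ t := by
      rw [← hζ]
      exact orderOf_dvd_of_mem_zpowers hu_mem
    rcases (Nat.dvd_prime ht).1 hdvd with h' | h'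
    · exact absurd (orderOf_eq_one_iff.mp h') hu1
    · exact h'
  have hcl : ∀ x ∈ W, (u : K) * x ∈ W := by
    intro x hx
    rw [hmemW] at hx ⊢
    have hconj : h * inl' (Multiplicative.ofAdd x) * h⁻¹ ∈ H :=
      H.mul_mem (H.mul_mem hhH hx) (H.inv_mem hhH)
    rw [GN_conj_inl, act_apply] at hconj
    exact hconj
  have hWtop : W = ⊤ := IR_addSubgroup_eq_top r t a hr ht hK hmin u hu W hW hcl
  have hinl : ∀ n : Multiplicative K, inl' n ∈ H := by
    intro n
    have : Multiplicative.toAdd n ∈ W := by rw [hWtop]; trivial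
    rw [hmemW] at this
    exact this
  -- every right component is a power of h.right
  have hcardZ : Nat.card (Subgroup.zpowers ζ) = t := by
    rw [Nat.card_zpowers, hζ]
  haveI : Fact t.Prime := ⟨ht⟩
  have hztop : Subgroup.zpowers h.right = ⊤ := zpowers_eq_top_of_prime_card hcardZ hhr
  rw [eq_top_iff]
  intro y _
  have hy : y.right ∈ Subgroup.zpowers h.right := by rw [hztop]; trivial
  obtain ⟨k, hk⟩ := hy
  have hk' : h.right ^ k = y.right := hk
  have hz : (y * (h ^ k)⁻¹) ∈ (SemidirectProduct.rightHom : Aff K (Subgroup.zpowers ζ) →* _).ker := by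
    rw [MonoidHom.mem_ker, map_mul, map_inv, map_zpow]
    simp only [SemidirectProduct.rightHom_eq_right]
    rw [hk', mul_inv_cancel]
  rw [← SemidirectProduct.range_inl_eq_ker_rightHom] at hz
  obtain ⟨n, hn⟩ := hz
  have hmem : y * (h ^ k)⁻¹ ∈ H := by
    rw [← hn]
    exact hinl n
  have := H.mul_mem hmem (H.zpow_mem hhH k)
  simpa using this

end Cfsg.Agent.S3599L
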