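import Mathlib

set_option autoImplicit false

namespace Cfsg.Agent.S3599L

theorem IR_pow_mem {K : Type} [Field K] (u : Kˣ) (W : AddSubgroup K)
    (hcl : ∀ x ∈ W, (u : K) * x ∈ W) (n : ℕ) : ∀ x ∈ W, ((u ^ n : Kˣ) : K) * x ∈ W := by
  induction n with
  | zero => intro x hx; simpa using hx
  | succ n ih =>
    intro x hx
    have h1 := ih _ (hcl x hx)
    have e : ((u ^ (n + 1) : Kˣ) : K) * x = ((u ^ n : Kˣ) : K) * ((u : K) * x) := by
      rw [pow_succ, Units.val_mul, mul_assoc]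
    rw [e]; exact h1

theorem IR_zpowers_mem {K : Type} [Field K] [Finite K] (u : Kˣ) (W : AddSubgroup K)
    (hcl : ∀ x ∈ W, (u : K) * x ∈ W) (g : Kˣ) (hg : g ∈ Subgroup.zpowers u) :
    ∀ x ∈ W, (g : K) * x ∈ W := by
  have hfin : IsOfFinOrder u := isOfFinOrder_of_finite u
  rw [← hfin.mem_powers_iff_mem_zpowers] at hg
  obtain ⟨n, rfl⟩ := hg
  exact IR_pow_mem u W hcl n

theorem IR_addSubgroup_eq_top {K : Type} [Field K] [Finite K] (r t a : ℕ) (hr : r.Prime) (ht : t.Prime)
    (hK : Nat.card K = r ^ a) (hmin : ∀ m : ℕ, 1 ≤ m → t ∣ r ^ m - 1 → a ≤ m)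
    (u : Kˣ) (hu : orderOf u = t) (W : AddSubgroup K) (hW : W ≠ ⊥)
    (hcl : ∀ x ∈ W, (u : K) * x ∈ W) : W = ⊤ := by
  classical
  -- |W| = r ^ m
  have hdvd : Nat.card W ∣ r ^ a := by
    rw [← hK]; exact AddSubgroup.card_addSubgroup_dvd_card W
  obtain ⟨m, hma, hm⟩ := (Nat.dvd_prime_pow hr).mp hdvd
  have hm1 : 1 ≤ m := by
    rcases Nat.eq_zero_or_pos m with h0 | h0
    · exfalso
      rw [h0, pow_zero] at hm
      exact hW (AddSubgroup.card_eq_one.mp hm)
    · exact h0
  -- the action of ⟨u⟩ on W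
  letI act : MulAction ↥(Subgroup.zpowers u) ↥W :=
    { smul := fun g x => ⟨((g : Kˣ) : K) * (x : K), IR_zpowers_mem u W hcl g g.2 x x.2⟩
      one_smul := fun x => by
        apply Subtype.ext
        show (((1 : ↥(Subgroup.zpowers u)) : Kˣ) : K) * (x : K) = x
        simp
      mul_smul := fun g h x => by
        apply Subtype.ext
        show (((g * h : ↥(Subgroup.zpowers u)) : Kˣ) : K) * (x : K) =
          ((g : Kˣ) : K) * (((h : Kˣ) : K) * (x : K))
        rw [Subgroup.coe_mul, Units.val_mul, mul_assoc] }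
  have hsmul : ∀ (g : ↥(Subgroup.zpowers u)) (x : ↥W), ((g • x : ↥W) : K) = ((g : Kˣ) : K) * (x : K) :=
    fun _ _ => rfl
  have hp : IsPGroup t ↥(Subgroup.zpowers u) := by
    haveI : Fact t.Prime := ⟨ht⟩
    apply IsPGroup.of_card (n := 1)
    rw [Nat.card_zpowers, hu, pow_one]
  have hu1 : (u : K) ≠ 1 := by
    intro h
    have : u = 1 := Units.ext h
    rw [this, orderOf_one] at hu
    exact ht.one_lt.ne hu
  have hfix : Nat.card (MulAction.fixedPoints ↥(Subgroup.zpowers u) ↥W) = 1 := by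
    rw [Nat.card_eq_one_iff_unique]
    constructor
    · constructor
      rintro ⟨x, hx⟩ ⟨y, hy⟩
      have key : ∀ z : ↥W, z ∈ MulAction.fixedPoints ↥(Subgroup.zpowers u) ↥W → (z : K) = 0 := by
        intro z hz
        have h1 := hz ⟨u, Subgroup.mem_zpowers u⟩
        have h2 : (u : K) * (z : K) = z := by
          have := congrArg (fun w : ↥W => (w : K)) h1
          simpa [hsmul] using this
        have h3 : ((u : K) - 1) * (z : K) = 0 := by rw [sub_mul, h2, one_mul, sub_self]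
        rcases mul_eq_zero.mp h3 with h4 | h4
        · exact absurd (sub_eq_zero.mp h4) hu1
        · exact h4
      apply Subtype.ext
      apply Subtype.ext
      rw [key x hx, key y hy]
    · refine ⟨⟨0, ?_⟩⟩
      intro g
      apply Subtype.ext
      rw [hsmul]
      simp
  haveI : Fact t.Prime := ⟨ht⟩
  have hmod := hp.card_modEq_card_fixedPoints (α := ↥W)
  rw [hfix, hm] at hmod
  have htd : t ∣ r ^ m - 1 := by
    exact (Nat.modEq_iff_dvd' (Nat.one_le_pow _ _ hr.pos)).mp hmod.symm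
  have ham : a ≤ m := hmin m hm1 htd
  have hma' : m = a := le_antisymm hma ham
  apply AddSubgroup.eq_top_of_card_eq
  rw [hm, hK, hma']

end Cfsg.Agent.S3599L
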