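import Cfsg.Agent.Lib.S3599.Defs

set_option autoImplicit false

namespace Cfsg.Agent.S3599L

/-- aux: the valuation of `r ^ a * t` at a number `p`. -/
theorem NI_fact_one (r t a p : ℕ) (hr : r.Prime) (ht : t.Prime) :
    (r ^ a * t).factorization p = a * (if r = p then 1 else 0) + (if t = p then 1 else 0) := by
  rw [Nat.factorization_mul (pow_ne_zero _ hr.ne_zero) ht.ne_zero, Nat.factorization_pow,
    hr.factorization, ht.factorization]
  simp [Finsupp.single_apply]

theorem NI_factorization {s : ℕ} (r t : Fin s → ℕ) (F : Fin s → Type) [∀ j, Group (F j)]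
    [∀ j, Finite (F j)] (hr : ∀ j, (r j).Prime) (ht : ∀ j, (t j).Prime) (hrt : ∀ j, r j ≠ t j)
    (hdist : ∀ i j, i ≠ j → r i ≠ r j ∧ r i ≠ t j ∧ t i ≠ r j ∧ t i ≠ t j)
    (hF : ∀ j, IsFrob (r j) (t j) (F j)) (j : Fin s) :
    (Nat.card (∀ j, F j)).factorization (t j) = 1 ∧
    ((Nat.card (∀ j, F j)).factorization (r j) = 1 → t j ∣ r j - 1) := by
  have hex : ∀ i, ∃ a : ℕ, 1 ≤ a ∧ Nat.card (F i) = r i ^ a * t i ∧ (a = 1 → t i ∣ r i - 1) :=
    fun i => (hF i).card
  choose a ha1 ha2 ha3 using hex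
  have hcard : Nat.card (∀ j, F j) = ∏ i, (r i ^ a i * t i) := by
    rw [Nat.card_pi]
    exact Finset.prod_congr rfl (fun i _ => ha2 i)
  have hfac : ∀ p, (Nat.card (∀ j, F j)).factorization p =
      ∑ i, (a i * (if r i = p then 1 else 0) + (if t i = p then 1 else 0)) := by
    intro p
    rw [hcard, Nat.factorization_prod
      (fun i _ => Nat.mul_ne_zero (pow_ne_zero _ (hr i).ne_zero) (ht i).ne_zero),
      Finsupp.finsetSum_apply]
    exact Finset.sum_congr rfl (fun i _ => NI_fact_one (r i) (t i) (a i) p (hr i) (ht i))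
  have h1 : (Nat.card (∀ j, F j)).factorization (t j) = 1 := by
    rw [hfac, Finset.sum_eq_single j]
    · simp [hrt j]
    · intro i _ hij
      obtain ⟨_, h2, _, h4⟩ := hdist i j hij
      simp [h2, h4]
    · intro h
      exact absurd (Finset.mem_univ j) h
  have h2 : (Nat.card (∀ j, F j)).factorization (r j) = a j := by
    rw [hfac, Finset.sum_eq_single j]
    · simp [(hrt j).symm]
    · intro i _ hij
      obtain ⟨h1', _, h3, _⟩ := hdist i j hij
      simp [h1', h3]
    · intro h
      exact absurd (Finset.mem_univ j) h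
  refine ⟨h1, ?_⟩
  intro h
  rw [h2] at h
  exact ha3 j h

end Cfsg.Agent.S3599L
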