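import Cfsg.Agent.Lib.S3599.Defs

/-!
# S3599 piece PB (helper9): a quotient with the full spectrum has `N = ⊥`
-/

set_option autoImplicit false

namespace Cfsg.Agent.S3599L

/-- the exponent killing all components but the `j`-th -/
def PB_k {s : ℕ} (r t : Fin s → ℕ) (j : Fin s) : ℕ := ∏ i ∈ Finset.univ.erase j, (r i * t i)

theorem PB_pow_eq_mulSingle {s : ℕ} (r t : Fin s → ℕ) (F : Fin s → Type) [∀ j, Group (F j)]
    (hF : ∀ j, IsFrob (r j) (t j) (F j)) (j : Fin s) (x : ∀ i, F i) :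
    x ^ PB_k r t j = Pi.mulSingle j ((x j) ^ PB_k r t j) := by
  funext i
  by_cases hij : i = j
  · subst hij
    rw [Pi.pow_apply, Pi.mulSingle_eq_same]
  · rw [Pi.pow_apply, Pi.mulSingle_eq_of_ne hij]
    apply orderOf_dvd_iff_pow_eq_one.mp
    have h1 : orderOf (x i) ∣ r i * t i := by
      rcases (hF i).ord (x i) with h | h | h
      · rw [h]; exact one_dvd _
      · rw [h]; exact Dvd.intro _ rfl
      · rw [h]; exact Dvd.intro_left _ rfl
    exact dvd_trans h1 (Finset.dvd_prod_of_mem (fun i => r i * t i)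
      (Finset.mem_erase.mpr ⟨hij, Finset.mem_univ i⟩))

theorem PB_coprime {s : ℕ} (r t : Fin s → ℕ) (hr : ∀ j, (r j).Prime) (ht : ∀ j, (t j).Prime)
    (hdist : ∀ i j, i ≠ j → r i ≠ r j ∧ r i ≠ t j ∧ t i ≠ r j ∧ t i ≠ t j) (j : Fin s) (q : ℕ)
    (hq : q = r j ∨ q = t j) : q.Coprime (PB_k r t j) := by
  unfold PB_k
  apply Nat.Coprime.prod_right
  intro i hi
  have hij : i ≠ j := (Finset.mem_erase.mp hi).1
  obtain ⟨h1, h2, h3, h4⟩ := hdist i j hij
  rcases hq with rfl | rfl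
  · exact Nat.Coprime.mul_right ((Nat.coprime_primes (hr j) (hr i)).mpr (Ne.symm h1))
      ((Nat.coprime_primes (hr j) (ht i)).mpr (Ne.symm h3))
  · exact Nat.Coprime.mul_right ((Nat.coprime_primes (ht j) (hr i)).mpr (Ne.symm h2))
      ((Nat.coprime_primes (ht j) (ht i)).mpr (Ne.symm h4))

theorem PB_bot {s : ℕ} (r t : Fin s → ℕ) (F : Fin s → Type) [∀ j, Group (F j)]
    [∀ j, Finite (F j)] (hr : ∀ j, (r j).Prime) (ht : ∀ j, (t j).Prime) (hrt : ∀ j, r j ≠ t j)
    (hdist : ∀ i j, i ≠ j → r i ≠ r j ∧ r i ≠ t j ∧ t i ≠ r j ∧ t i ≠ t j)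
    (hF : ∀ j, IsFrob (r j) (t j) (F j))
    (N : Subgroup (∀ j, F j)) [N.Normal]
    (hsec : Om r t ⊆ Set.range (orderOf : ((∀ j, F j) ⧸ N) → ℕ)) : N = ⊥ := by
  by_contra hN
  obtain ⟨n, hnN, hn1⟩ : ∃ n : ∀ j, F j, n ∈ N ∧ n ≠ 1 := by
    by_contra hcon
    apply hN
    rw [Subgroup.eq_bot_iff_forall]
    intro x hx
    by_contra hx1
    exact hcon ⟨x, hx, hx1⟩
  obtain ⟨j, hj⟩ : ∃ j, n j ≠ 1 := by
    by_contra hcon
    apply hn1
    funext i
    by_contra hi
    exact hcon ⟨i, hi⟩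
  set k := PB_k r t j with hk
  -- a nontrivial element of `N` supported at `j`
  have hnk : Pi.mulSingle j ((n j) ^ k) ∈ N := by
    rw [← PB_pow_eq_mulSingle r t F hF j n]
    exact N.pow_mem hnN k
  have hnjk : (n j) ^ k ≠ 1 := by
    intro h
    have hdvd : orderOf (n j) ∣ k := orderOf_dvd_of_pow_eq_one h
    have hord : orderOf (n j) = r j ∨ orderOf (n j) = t j := by
      rcases (hF j).ord (n j) with h1 | h1 | h1
      · exact absurd (orderOf_eq_one_iff.mp h1) hj
      · exact Or.inl h1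
      · exact Or.inr h1
    have hcop := PB_coprime r t hr ht hdist j (orderOf (n j)) hord
    have h1 : orderOf (n j) = 1 := hcop.eq_one_of_dvd hdvd
    exact hj (orderOf_eq_one_iff.mp h1)
  -- the trace of `N` on the `j`-th factor
  have hNjn : (N.comap (MonoidHom.mulSingle F j)).Normal := Subgroup.Normal.comap inferInstance _
  have hNj1 : N.comap (MonoidHom.mulSingle F j) ≠ ⊥ := by
    intro h
    have : (n j) ^ k ∈ N.comap (MonoidHom.mulSingle F j) := hnk
    rw [h, Subgroup.mem_bot] at this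
    exact hnjk this
  have hquot := (hF j).quot _ hNjn hNj1
  -- an element of order `r j` in the quotient
  have hrOm : r j ∈ Om r t := by
    refine ⟨fun i => if i = j then r j else 1, ?_, ?_⟩
    · intro i
      by_cases hij : i = j
      · subst hij; right; left; simp
      · left; simp [hij]
    · simp
  obtain ⟨gbar, hgbar⟩ := hsec hrOm
  obtain ⟨g, rfl⟩ := QuotientGroup.mk_surjective gbar
  have hcop : (r j).Coprime k := PB_coprime r t hr ht hdist j (r j) (Or.inl rfl)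
  have hgk : orderOf ((QuotientGroup.mk g : (∀ j, F j) ⧸ N) ^ k) = r j := by
    rw [Nat.Coprime.orderOf_pow (by rw [hgbar]; exact hcop), hgbar]
  have hgk' : (QuotientGroup.mk g : (∀ j, F j) ⧸ N) ^ k
      = QuotientGroup.mk (Pi.mulSingle j ((g j) ^ k)) := by
    rw [← QuotientGroup.mk_pow, PB_pow_eq_mulSingle r t F hF j g]
  rw [hgk'] at hgk
  have hr1 : r j ≠ 1 := (hr j).one_lt.ne'
  rcases (hF j).ord ((g j) ^ k) with h1 | h1 | h1
  · rw [orderOf_eq_one_iff.mp h1, Pi.mulSingle_one, QuotientGroup.mk_one, orderOf_one] at hgk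
    exact hr1 hgk.symm
  · have hmem : Pi.mulSingle j ((g j) ^ k) ∈ N := hquot _ h1
    rw [(QuotientGroup.eq_one_iff _).mpr hmem, orderOf_one] at hgk
    exact hr1 hgk.symm
  · have hpow : (QuotientGroup.mk (Pi.mulSingle j ((g j) ^ k)) : (∀ j, F j) ⧸ N) ^ (t j) = 1 := by
      rw [← QuotientGroup.mk_pow, ← Pi.mulSingle_pow, ← h1, pow_orderOf_eq_one, Pi.mulSingle_one,
        QuotientGroup.mk_one]
    have hdvd : r j ∣ t j := hgk ▸ orderOf_dvd_of_pow_eq_one hpow
    exact hrt j ((Nat.prime_dvd_prime_iff_eq (hr j) (ht j)).mp hdvd)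

end Cfsg.Agent.S3599L
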