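import Cfsg.Agent.Lib.S3599.Defs

set_option autoImplicit false

namespace Cfsg.Agent.S3599L

/-- aux: order of an element of a finite product with pairwise coprime component orders. -/
theorem PO_orderOf_pi {s : ℕ} (F : Fin s → Type) [∀ j, Group (F j)] (x : ∀ j, F j)
    (hcop : ∀ i j, i ≠ j → (orderOf (x i)).Coprime (orderOf (x j))) :
    orderOf x = ∏ j, orderOf (x j) := by
  apply Nat.dvd_antisymm
  · rw [orderOf_dvd_iff_pow_eq_one]
    funext j
    rw [Pi.pow_apply, Pi.one_apply, ← orderOf_dvd_iff_pow_eq_one]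
    exact Finset.dvd_prod_of_mem _ (Finset.mem_univ j)
  · apply Finset.prod_dvd_of_isRelPrime
    · intro i _ j _ hij
      exact Nat.coprime_iff_isRelPrime.mp (hcop i j hij)
    · intro j _
      rw [orderOf_dvd_iff_pow_eq_one]
      have := congrFun (pow_orderOf_eq_one x) j
      simpa using this

/-- aux: the admissible values are pairwise coprime. -/
theorem PO_cop {s : ℕ} (r t : Fin s → ℕ) (hr : ∀ j, (r j).Prime) (ht : ∀ j, (t j).Prime)
    (hdist : ∀ i j, i ≠ j → r i ≠ r j ∧ r i ≠ t j ∧ t i ≠ r j ∧ t i ≠ t j)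
    (c : Fin s → ℕ) (hc : ∀ j, c j = 1 ∨ c j = r j ∨ c j = t j) :
    ∀ i j, i ≠ j → (c i).Coprime (c j) := by
  intro i j hij
  obtain ⟨h1, h2, h3, h4⟩ := hdist i j hij
  rcases hc i with h | h | h <;> rcases hc j with h' | h' | h' <;> rw [h, h']
  · exact Nat.coprime_one_left _
  · exact Nat.coprime_one_left _
  · exact Nat.coprime_one_left _
  · exact Nat.coprime_one_right _
  · exact (Nat.coprime_primes (hr i) (hr j)).mpr h1
  · exact (Nat.coprime_primes (hr i) (ht j)).mpr h2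
  · exact Nat.coprime_one_right _
  · exact (Nat.coprime_primes (ht i) (hr j)).mpr h3
  · exact (Nat.coprime_primes (ht i) (ht j)).mpr h4

theorem PO_range_orderOf {s : ℕ} (r t : Fin s → ℕ) (F : Fin s → Type) [∀ j, Group (F j)]
    [∀ j, Finite (F j)] (hr : ∀ j, (r j).Prime) (ht : ∀ j, (t j).Prime) (hrt : ∀ j, r j ≠ t j)
    (hdist : ∀ i j, i ≠ j → r i ≠ r j ∧ r i ≠ t j ∧ t i ≠ r j ∧ t i ≠ t j)
    (hF : ∀ j, IsFrob (r j) (t j) (F j)) :
    Set.range (orderOf : (∀ j, F j) → ℕ) = Om r t := by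
  ext m
  constructor
  · rintro ⟨x, rfl⟩
    refine ⟨fun j => orderOf (x j), fun j => (hF j).ord (x j), ?_⟩
    exact PO_orderOf_pi F x
      (PO_cop r t hr ht hdist (fun j => orderOf (x j)) (fun j => (hF j).ord (x j)))
  · rintro ⟨c, hc, rfl⟩
    have hex : ∀ j, ∃ y : F j, orderOf y = c j := by
      intro j
      rcases hc j with h | h | h
      · exact ⟨1, by rw [h, orderOf_one]⟩
      · obtain ⟨g, hg⟩ := (hF j).ex_r
        exact ⟨g, by rw [hg, h]⟩
      · obtain ⟨g, hg⟩ := (hF j).ex_t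
        exact ⟨g, by rw [hg, h]⟩
    choose x hx using hex
    refine ⟨x, ?_⟩
    show orderOf x = _
    rw [PO_orderOf_pi F x ?_]
    · exact Finset.prod_congr rfl (fun j _ => hx j)
    · intro i j hij
      rw [hx i, hx j]
      exact PO_cop r t hr ht hdist c hc i j hij

end Cfsg.Agent.S3599L
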