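import Cfsg.Agent.Lib.S3599.Defs
import Cfsg.Agent.Lib.S3599.PB

/-!
# S3599 piece PT (helper9): a section with the full spectrum has `H = ⊤`
-/

set_option autoImplicit false

namespace Cfsg.Agent.S3599L

theorem PT_exists {s : ℕ} (r t : Fin s → ℕ) (F : Fin s → Type) [∀ j, Group (F j)]
    [∀ j, Finite (F j)] (hr : ∀ j, (r j).Prime) (ht : ∀ j, (t j).Prime) (_hrt : ∀ j, r j ≠ t j)
    (hdist : ∀ i j, i ≠ j → r i ≠ r j ∧ r i ≠ t j ∧ t i ≠ r j ∧ t i ≠ t j)
    (hF : ∀ j, IsFrob (r j) (t j) (F j))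
    (H : Subgroup (∀ j, F j)) (N : Subgroup ↥H) [N.Normal]
    (hsec : Om r t ⊆ Set.range (orderOf : (↥H ⧸ N) → ℕ)) (j : Fin s) (q : ℕ)
    (hq : q = r j ∨ q = t j) :
    ∃ y : F j, Pi.mulSingle j y ∈ H ∧ orderOf y = q := by
  have hqp : q.Prime := by
    rcases hq with rfl | rfl
    · exact hr j
    · exact ht j
  have hqOm : q ∈ Om r t := by
    refine ⟨fun i => if i = j then q else 1, ?_, ?_⟩
    · intro i
      by_cases hij : i = j
      · subst hij
        rcases hq with rfl | rfl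
        · right; left; simp
        · right; right; simp
      · left; simp [hij]
    · simp
  obtain ⟨gbar, hgbar⟩ := hsec hqOm
  obtain ⟨g, rfl⟩ := QuotientGroup.mk_surjective gbar
  set k := PB_k r t j with hk
  have hcop : q.Coprime k := PB_coprime r t hr ht hdist j q hq
  have hgk : orderOf ((QuotientGroup.mk g : ↥H ⧸ N) ^ k) = q := by
    rw [Nat.Coprime.orderOf_pow (by rw [hgbar]; exact hcop), hgbar]
  have hcoe : ((g ^ k : ↥H) : ∀ j, F j) = Pi.mulSingle j (((g : ∀ j, F j) j) ^ k) := by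
    rw [Subgroup.coe_pow]
    exact PB_pow_eq_mulSingle r t F hF j (g : ∀ j, F j)
  refine ⟨((g : ∀ j, F j) j) ^ k, ?_, ?_⟩
  · rw [← hcoe]
    exact (g ^ k).2
  · set y := ((g : ∀ j, F j) j) ^ k with hy
    have hpow : (g ^ k) ^ orderOf y = 1 := by
      apply Subtype.ext
      rw [Subgroup.coe_pow, hcoe, ← Pi.mulSingle_pow, pow_orderOf_eq_one, Pi.mulSingle_one]
      rfl
    have hpow' : ((QuotientGroup.mk g : ↥H ⧸ N) ^ k) ^ orderOf y = 1 := by
      rw [← QuotientGroup.mk_pow, ← QuotientGroup.mk_pow, hpow, QuotientGroup.mk_one]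
    have hdvd : q ∣ orderOf y := hgk ▸ orderOf_dvd_of_pow_eq_one hpow'
    rcases (hF j).ord y with h1 | h1 | h1
    · rw [h1] at hdvd
      exact absurd (Nat.dvd_one.mp hdvd) hqp.one_lt.ne'
    · rw [h1] at hdvd ⊢
      exact ((Nat.prime_dvd_prime_iff_eq hqp (hr j)).mp hdvd).symm
    · rw [h1] at hdvd ⊢
      exact ((Nat.prime_dvd_prime_iff_eq hqp (ht j)).mp hdvd).symm

theorem PT_top {s : ℕ} (r t : Fin s → ℕ) (F : Fin s → Type) [∀ j, Group (F j)]
    [∀ j, Finite (F j)] (hr : ∀ j, (r j).Prime) (ht : ∀ j, (t j).Prime) (hrt : ∀ j, r j ≠ t j)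
    (hdist : ∀ i j, i ≠ j → r i ≠ r j ∧ r i ≠ t j ∧ t i ≠ r j ∧ t i ≠ t j)
    (hF : ∀ j, IsFrob (r j) (t j) (F j))
    (H : Subgroup (∀ j, F j)) (N : Subgroup ↥H) [N.Normal]
    (hsec : Om r t ⊆ Set.range (orderOf : (↥H ⧸ N) → ℕ)) : H = ⊤ := by
  have hj : ∀ j, H.comap (MonoidHom.mulSingle F j) = ⊤ := by
    intro j
    apply (hF j).gen
    · obtain ⟨y, hy, hyo⟩ := PT_exists r t F hr ht hrt hdist hF H N hsec j (r j) (Or.inl rfl)
      exact ⟨y, hy, hyo⟩
    · obtain ⟨y, hy, hyo⟩ := PT_exists r t F hr ht hrt hdist hF H N hsec j (t j) (Or.inr rfl)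
      exact ⟨y, hy, hyo⟩
  rw [Subgroup.eq_top_iff']
  intro x
  apply Subgroup.pi_mem_of_mulSingle_mem
  intro j
  have : x j ∈ H.comap (MonoidHom.mulSingle F j) := by
    rw [hj j]
    exact Subgroup.mem_top _
  exact this

end Cfsg.Agent.S3599L
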