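import Cfsg.Agent.Lib.S3599.IR
import Cfsg.Agent.Lib.S3599.PW

set_option autoImplicit false

namespace Cfsg.Agent.S3599L

/-- The additive subgroup of `K` cut out by a subgroup of `Aff K Z` on the kernel. -/
def QT_W {K : Type} [Field K] (Z : Subgroup Kˣ) (N : Subgroup (Aff K Z)) : AddSubgroup K where
  carrier := {x | (SemidirectProduct.inl (Multiplicative.ofAdd x) : Aff K Z) ∈ N}
  zero_mem' := by
    show (SemidirectProduct.inl (Multiplicative.ofAdd (0 : K)) : Aff K Z) ∈ N
    rw [ofAdd_zero, map_one]; exact N.one_mem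
  add_mem' := by
    intro x y hx hy
    show (SemidirectProduct.inl (Multiplicative.ofAdd (x + y)) : Aff K Z) ∈ N
    rw [ofAdd_add, map_mul]; exact N.mul_mem hx hy
  neg_mem' := by
    intro x hx
    show (SemidirectProduct.inl (Multiplicative.ofAdd (-x)) : Aff K Z) ∈ N
    rw [ofAdd_neg, map_inv]; exact N.inv_mem hx

theorem QT_mem_W {K : Type} [Field K] (Z : Subgroup Kˣ) (N : Subgroup (Aff K Z)) (x : K) :
    x ∈ QT_W Z N ↔ (SemidirectProduct.inl (Multiplicative.ofAdd x) : Aff K Z) ∈ N := Iff.rfl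

theorem QT_W_closed {K : Type} [Field K] (Z : Subgroup Kˣ) (N : Subgroup (Aff K Z)) (hN : N.Normal)
    (v : Z) (x : K) (hx : x ∈ QT_W Z N) : ((v : Kˣ) : K) * x ∈ QT_W Z N := by
  rw [QT_mem_W] at hx ⊢
  have h1 := hN.conj_mem _ hx (SemidirectProduct.inr v)
  rw [← map_inv, ← SemidirectProduct.inl_aut] at h1
  exact h1

theorem QT_eq_inl {K : Type} [Field K] (Z : Subgroup Kˣ) (g : Aff K Z) (h : g.right = 1) :
    g = SemidirectProduct.inl (Multiplicative.ofAdd (Multiplicative.toAdd g.left)) := by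
  apply SemidirectProduct.ext
  · simp
  · simp [h]

theorem QT_comm {K : Type} [Field K] (Z : Subgroup Kˣ) (n : Aff K Z) :
    (SemidirectProduct.inl (Multiplicative.ofAdd (1 : K)) : Aff K Z) * n *
        (SemidirectProduct.inl (Multiplicative.ofAdd (1 : K)) : Aff K Z)⁻¹ * n⁻¹ =
      SemidirectProduct.inl (Multiplicative.ofAdd (1 - ((n.right : Kˣ) : K))) := by
  apply SemidirectProduct.ext
  · apply Multiplicative.toAdd.injective
    simp only [SemidirectProduct.mul_left, SemidirectProduct.mul_right, SemidirectProduct.inv_left,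
      SemidirectProduct.inv_right, SemidirectProduct.left_inl, SemidirectProduct.right_inl,
      act_apply, toAdd_mul, toAdd_ofAdd, toAdd_inv, one_mul, inv_one, map_one, MulAut.one_apply,
      Subgroup.coe_inv, Units.val_inv_eq_inv_val, mul_one]
    have hu : ((n.right : Kˣ) : K) ≠ 0 := Units.ne_zero _
    field_simp
    ring
  · simp only [SemidirectProduct.mul_right, SemidirectProduct.inv_right,
      SemidirectProduct.right_inl, one_mul, inv_one, mul_one, mul_inv_cancel]

theorem QT_quot {K : Type} [Field K] [Finite K] (r t a : ℕ) (hr : r.Prime) (ht : t.Prime) (hne : r ≠ t)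
    [CharP K r] (hK : Nat.card K = r ^ a) (hmin : ∀ m : ℕ, 1 ≤ m → t ∣ r ^ m - 1 → a ≤ m)
    (ζ : Kˣ) (hζ : orderOf ζ = t) (N : Subgroup (Aff K (Subgroup.zpowers ζ))) (hN : N.Normal)
    (hne' : N ≠ ⊥) (g : Aff K (Subgroup.zpowers ζ)) (hg : orderOf g = r) : g ∈ N := by
  -- a nonzero element of W
  have hWne : QT_W (Subgroup.zpowers ζ) N ≠ ⊥ := by
    obtain ⟨n, hn1⟩ := (Subgroup.ne_bot_iff_exists_ne_one).mp hne'
    have hn : (n : Aff K (Subgroup.zpowers ζ)) ∈ N := n.2
    have hn1' : (n : Aff K (Subgroup.zpowers ζ)) ≠ 1 := by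
      intro h; apply hn1; exact Subtype.ext h
    by_cases hright : (n : Aff K (Subgroup.zpowers ζ)).right = 1
    · -- n = inl x with x ≠ 0
      have e := QT_eq_inl _ (n : Aff K (Subgroup.zpowers ζ)) hright
      intro hbot
      have hx : Multiplicative.toAdd (n : Aff K (Subgroup.zpowers ζ)).left ∈
          QT_W (Subgroup.zpowers ζ) N := by
        rw [QT_mem_W, ← e]; exact hn
      rw [hbot, AddSubgroup.mem_bot] at hx
      apply hn1'
      rw [e, hx, ofAdd_zero, map_one]
    · intro hbot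
      have hc : (SemidirectProduct.inl (Multiplicative.ofAdd (1 : K)) : Aff K (Subgroup.zpowers ζ)) *
          n * (SemidirectProduct.inl (Multiplicative.ofAdd (1 : K)) :
            Aff K (Subgroup.zpowers ζ))⁻¹ * (n : Aff K (Subgroup.zpowers ζ))⁻¹ ∈ N :=
        N.mul_mem (hN.conj_mem _ hn _) (N.inv_mem hn)
      rw [QT_comm] at hc
      have hx : (1 - (((n : Aff K (Subgroup.zpowers ζ)).right : Kˣ) : K)) ∈
          QT_W (Subgroup.zpowers ζ) N := hc
      rw [hbot, AddSubgroup.mem_bot] at hx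
      apply hright
      apply Subtype.ext
      apply Units.ext
      have := (sub_eq_zero.mp hx).symm
      simpa using this
  have hcl : ∀ x ∈ QT_W (Subgroup.zpowers ζ) N, (ζ : K) * x ∈ QT_W (Subgroup.zpowers ζ) N := by
    intro x hx
    exact QT_W_closed _ N hN ⟨ζ, Subgroup.mem_zpowers ζ⟩ x hx
  have htop := IR_addSubgroup_eq_top r t a hr ht hK hmin ζ hζ _ hWne hcl
  have hright : g.right = 1 := (PW_ord r t hr ht hne ζ hζ g).2.1 hg
  rw [QT_eq_inl _ g hright]
  have : Multiplicative.toAdd g.left ∈ QT_W (Subgroup.zpowers ζ) N := by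
    rw [htop]; exact AddSubgroup.mem_top _
  exact this

end Cfsg.Agent.S3599L
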