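import Cfsg.Agent.Lib.S3599.Defs
import Cfsg.Agent.Lib.S3599.FE
import Cfsg.Agent.Lib.S3599.IR
import Cfsg.Agent.Lib.S3599.PW
import Cfsg.Agent.Lib.S3599.GN
import Cfsg.Agent.Lib.S3599.QT
import Cfsg.Agent.Lib.S3599.PO
import Cfsg.Agent.Lib.S3599.PT
import Cfsg.Agent.Lib.S3599.PB
import Cfsg.Agent.Lib.S3599.NI

set_option autoImplicit false
set_option linter.unusedSectionVars false

namespace Cfsg.Agent.S3599L

instance M_finite_aff {K : Type} [Field K] [Finite K] (Z : Subgroup Kˣ) : Finite (Aff K Z) :=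
  Finite.of_equiv _ (SemidirectProduct.equivProd).symm

theorem M_isFrob_aff {K : Type} [Field K] [Finite K] (r t a : ℕ) (hr : r.Prime) (ht : t.Prime)
    (hne : r ≠ t) [CharP K r] (ha : 1 ≤ a) (hK : Nat.card K = r ^ a)
    (hmin : ∀ m : ℕ, 1 ≤ m → t ∣ r ^ m - 1 → a ≤ m) (h1 : a = 1 → t ∣ r - 1)
    (ζ : Kˣ) (hζ : orderOf ζ = t) : IsFrob r t (Aff K (Subgroup.zpowers ζ)) where
  ord g := (PW_ord r t hr ht hne ζ hζ g).1
  ex_r := (PW_ex r t hr ht hne ζ hζ).1
  ex_t := (PW_ex r t hr ht hne ζ hζ).2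
  gen H h1 h2 := GN_gen r t a hr ht hne hK hmin ζ hζ H h1 h2
  quot N hN hne' g hg := QT_quot r t a hr ht hne hK hmin ζ hζ N hN hne' g hg
  card := ⟨a, ha, by
    rw [SemidirectProduct.card, Nat.card_zpowers, hζ]
    congr 1, h1⟩

/-- A packaged Frobenius group. -/
structure FrobPack (r t : ℕ) where
  F : Type
  [grp : Group F]
  [fin : Finite F]
  isFrob : IsFrob r t F

attribute [instance] FrobPack.grp FrobPack.fin

theorem M_nonempty_pack (r t : ℕ) (hr : r.Prime) (ht : t.Prime) (hne : r ≠ t) :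
    Nonempty (FrobPack r t) := by
  have := Fact.mk hr
  obtain ⟨a, ζ, ha, hK, hζ, h1, hmin⟩ := FE_exists_field r t ht hne
  exact ⟨⟨Aff (GaloisField r a) (Subgroup.zpowers ζ),
    M_isFrob_aff r t a hr ht hne ha hK hmin h1 ζ hζ⟩⟩


section Assembly

variable {s : ℕ} (p : Fin s → Fin 2 → ℕ)

/-- first prime of the `j`-th factor of the `a`-th group -/
def M_r (a : Fin (2 ^ s)) (j : Fin s) : ℕ := if a.val.testBit j.val then p j 1 else p j 0
/-- second prime of the `j`-th factor of the `a`-th group -/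
def M_t (a : Fin (2 ^ s)) (j : Fin s) : ℕ := if a.val.testBit j.val then p j 0 else p j 1

variable {p} (hp : ∀ j i, (p j i).Prime) (hinj : ∀ j i j' i', p j i = p j' i' → j = j' ∧ i = i')
include hp hinj

theorem M_r_prime (a : Fin (2 ^ s)) (j : Fin s) : (M_r p a j).Prime := by
  unfold M_r; split_ifs <;> exact hp _ _

theorem M_t_prime (a : Fin (2 ^ s)) (j : Fin s) : (M_t p a j).Prime := by
  unfold M_t; split_ifs <;> exact hp _ _

theorem M_rt_ne (a : Fin (2 ^ s)) (j : Fin s) : M_r p a j ≠ M_t p a j := by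
  unfold M_r M_t
  split_ifs <;> intro h <;> have := (hinj _ _ _ _ h).2 <;> simp at this

theorem M_dist (a : Fin (2 ^ s)) (i j : Fin s) (hij : i ≠ j) :
    M_r p a i ≠ M_r p a j ∧ M_r p a i ≠ M_t p a j ∧ M_t p a i ≠ M_r p a j ∧ M_t p a i ≠ M_t p a j := by
  unfold M_r M_t
  refine ⟨?_, ?_, ?_, ?_⟩ <;> split_ifs <;> intro h <;> exact hij (hinj _ _ _ _ h).1

omit hp hinj in
theorem M_Om_eq (a : Fin (2 ^ s)) :
    Om (M_r p a) (M_t p a) =
      {m : ℕ | ∃ c : Fin s → ℕ, (∀ j, c j = 1 ∨ c j = p j 0 ∨ c j = p j 1) ∧ m = ∏ j, c j} := by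
  ext m
  constructor
  · rintro ⟨c, hc, rfl⟩
    refine ⟨c, fun j => ?_, rfl⟩
    have := hc j
    unfold M_r M_t at this
    split_ifs at this <;> tauto
  · rintro ⟨c, hc, rfl⟩
    refine ⟨c, fun j => ?_, rfl⟩
    have := hc j
    unfold M_r M_t
    split_ifs <;> tauto

/-- the chosen pack -/
noncomputable def M_pk (a : Fin (2 ^ s)) (j : Fin s) : FrobPack (M_r p a j) (M_t p a j) :=
  Classical.choice (M_nonempty_pack _ _ (M_r_prime hp hinj a j) (M_t_prime hp hinj a j)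
    (M_rt_ne hp hinj a j))

end Assembly


section Glue

variable {s : ℕ} (r t : Fin s → ℕ) (F : Fin s → Type) [∀ j, Group (F j)] [∀ j, Finite (F j)]

theorem M_critical (hr : ∀ j, (r j).Prime) (ht : ∀ j, (t j).Prime) (hrt : ∀ j, r j ≠ t j)
    (hdist : ∀ i j, i ≠ j → r i ≠ r j ∧ r i ≠ t j ∧ t i ≠ r j ∧ t i ≠ t j)
    (hF : ∀ j, IsFrob (r j) (t j) (F j))
    (H : Subgroup (∀ j, F j)) (N : Subgroup ↥H) [N.Normal]
    (hHN : H ≠ ⊤ ∨ N ≠ ⊥) : Set.range (orderOf : (↥H ⧸ N) → ℕ) ≠ Om r t := by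
  intro hsec
  have hH : H = ⊤ := PT_top r t F hr ht hrt hdist hF H N hsec.ge
  subst hH
  rcases hHN with h | h
  · exact h rfl
  · apply h
    have hsurj : Function.Surjective (⊤ : Subgroup (∀ j, F j)).subtype :=
      fun x => ⟨⟨x, trivial⟩, rfl⟩
    have : (N.map (⊤ : Subgroup (∀ j, F j)).subtype).Normal :=
      Subgroup.Normal.map inferInstance _ hsurj
    have hb := PB_bot r t F hr ht hrt hdist hF (N.map (⊤ : Subgroup (∀ j, F j)).subtype) ?_
    · exact (Subgroup.map_eq_bot_iff_of_injective _ (Subgroup.subtype_injective _)).1 hb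
    · intro m hm
      obtain ⟨x, hx⟩ := hsec.ge hm
      obtain ⟨y, rfl⟩ := QuotientGroup.mk_surjective x
      refine ⟨QuotientGroup.mk (y : ∀ j, F j), ?_⟩
      rw [← hx]
      rw [orderOf_eq_orderOf_iff]
      intro n
      rw [← QuotientGroup.mk_pow, ← QuotientGroup.mk_pow, QuotientGroup.eq_one_iff,
        QuotientGroup.eq_one_iff]
      constructor
      · rintro ⟨z, hz, hzy⟩
        have : z = y ^ n := Subtype.ext (by simpa using hzy)
        rwa [← this]
      · intro h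
        exact ⟨y ^ n, h, by simp⟩

end Glue


section NonIso

variable {s : ℕ} {p : Fin s → Fin 2 → ℕ}
  (hp : ∀ j i, (p j i).Prime) (hinj : ∀ j i j' i', p j i = p j' i' → j = j' ∧ i = i')
include hp hinj

theorem M_isFrob (a : Fin (2 ^ s)) (j : Fin s) :
    IsFrob (M_r p a j) (M_t p a j) (M_pk hp hinj a j).F := (M_pk hp hinj a j).isFrob

theorem M_fact (a : Fin (2 ^ s)) (j : Fin s) :
    (Nat.card (∀ j, (M_pk hp hinj a j).F)).factorization (M_t p a j) = 1 ∧
    ((Nat.card (∀ j, (M_pk hp hinj a j).F)).factorization (M_r p a j) = 1 →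
      M_t p a j ∣ M_r p a j - 1) :=
  NI_factorization (M_r p a) (M_t p a) (fun j => (M_pk hp hinj a j).F)
    (M_r_prime hp hinj a) (M_t_prime hp hinj a) (M_rt_ne hp hinj a) (M_dist hp hinj a)
    (M_isFrob hp hinj a) j

theorem M_absurd_dvd {P Q : ℕ} (hP : P.Prime) (hQ : Q.Prime) (h1 : Q ∣ P - 1) (h2 : P ∣ Q - 1) :
    False := by
  have hP2 := hP.two_le
  have hQ2 := hQ.two_le
  have := Nat.le_of_dvd (by omega) h1
  have := Nat.le_of_dvd (by omega) h2
  omega

theorem M_card_ne (a b : Fin (2 ^ s)) (hab : a ≠ b) :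
    Nat.card (∀ j, (M_pk hp hinj a j).F) ≠ Nat.card (∀ j, (M_pk hp hinj b j).F) := by
  intro hcard
  have hv : a.val ≠ b.val := fun h => hab (Fin.ext h)
  obtain ⟨i, hi⟩ : ∃ i, a.val.testBit i ≠ b.val.testBit i := by
    by_contra hcon
    push Not at hcon
    exact hv (Nat.eq_of_testBit_eq hcon)
  have his : i < s := by
    by_contra hge
    push Not at hge
    have h2 : 2 ^ s ≤ 2 ^ i := Nat.pow_le_pow_right (by norm_num) hge
    have ha : a.val.testBit i = false := Nat.testBit_lt_two_pow (lt_of_lt_of_le a.isLt h2)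
    have hb : b.val.testBit i = false := Nat.testBit_lt_two_pow (lt_of_lt_of_le b.isLt h2)
    exact hi (ha.trans hb.symm)
  set j : Fin s := ⟨i, his⟩ with hj
  obtain ⟨fa1, fa2⟩ := M_fact hp hinj a j
  obtain ⟨fb1, fb2⟩ := M_fact hp hinj b j
  rw [hcard] at fa1 fa2
  unfold M_r M_t at fa1 fa2 fb1 fb2
  have hji : j.val = i := rfl
  rw [hji] at fa1 fa2 fb1 fb2
  cases hA : a.val.testBit i <;> cases hB : b.val.testBit i
  · exact hi (hA.trans hB.symm)
  · simp only [hA, hB, if_true, if_false, Bool.false_eq_true] at fa1 fa2 fb1 fb2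
    exact M_absurd_dvd hp hinj (hp j 0) (hp j 1) (fa2 fb1) (fb2 fa1)
  · simp only [hA, hB, if_true, if_false, Bool.false_eq_true] at fa1 fa2 fb1 fb2
    exact M_absurd_dvd hp hinj (hp j 1) (hp j 0) (fa2 fb1) (fb2 fa1)
  · exact hi (hA.trans hB.symm)

end NonIso

end Cfsg.Agent.S3599L
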